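import Groth.Agent.KFlatLib.Scheme.RGammaPush
import Groth.Agent.KFlatLib.Scheme.TildeD
import Groth.Agent.KFlatLib.Scheme.RpushUnbounded
import Groth.Agent.QCoh.Tilde
import Groth.Prelude.Def_HTor

/-!
# `RΓ(X, -)` with values in `D(A)` and `Rf_*`
-/

set_option autoImplicit false
set_option linter.style.haveILetI false
set_option backward.isDefEq.respectTransparency false
set_option maxHeartbeats 800000

universe u

open CategoryTheory CategoryTheory.Limits AlgebraicGeometry Opposite

attribute [local instance] HasDerivedCategory.standard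

noncomputable section

namespace Groth.Agent.KFlatLib

/-- For K-injective `I` with quasi-coherent cohomology the counit `(ΓI)^~ ⟶ I` is invertible. -/
theorem isIso_counitQ {R : CommRingCat.{u}} (I : CochainComplex (Spec R).Modules ℤ) [I.IsKInjective]
    (hI : DCoh.IsQCohD (DerivedCategory.Q.obj I)) : IsIso (counitQ I) := by
  have hT := isQCohD_tildeD R (DerivedCategory.Q.obj (gammaCx.obj I))
  refine (DerivedCategory.isIso_iff _ (counitQ I)).2 fun n =>
    isIso_of_bijective_comp_qcoh (hT n) (hI n) _ ?_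
  let e := ((tilde.functor R).mapDerivedCategorySingleFunctor n).app (ModuleCat.of R R)
  have hA := adj_bijective ((DerivedCategory.singleFunctor (ModuleCat.{u} R) n).obj
    (ModuleCat.of R R)) I
  have hb := tildeD_map_bijective ((DerivedCategory.singleFunctor (ModuleCat.{u} R) n).obj
    (ModuleCat.of R R)) (DerivedCategory.Q.obj (gammaCx.obj I))
  have b₁ := bijective_psiC_tildeR hT n
  have b₂ := bijective_psiC_tildeR hI n
  have h : Function.Bijective (fun φ : (DerivedCategory.singleFunctor (Spec R).Modules n).obj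
      ((tilde.functor R).obj (ModuleCat.of R R)) ⟶ _ => φ ≫ counitQ I) := by
    refine ⟨fun a b hab => (cancel_epi e.hom).1 ?_, fun y => ?_⟩
    · obtain ⟨a', ha'⟩ := hb.2 (e.hom ≫ a)
      obtain ⟨b', hb'⟩ := hb.2 (e.hom ≫ b)
      rw [← ha', ← hb', hA.1 (a₁ := a') (a₂ := b') ?_]
      simp only at hab ⊢
      rw [ha', hb', Category.assoc, Category.assoc, hab]
    · obtain ⟨c, hc⟩ := hA.2 (e.hom ≫ y)
      refine ⟨e.inv ≫ (DCoh.tildeD R).map c, (cancel_epi e.hom).1 ?_⟩
      simp only at hc ⊢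
      rw [Category.assoc, hc, Iso.inv_hom_id_assoc]
  refine ⟨fun x y hxy => ?_, fun z => ?_⟩
  · obtain ⟨a, rfl⟩ := b₁.2 x
    obtain ⟨b, rfl⟩ := b₁.2 y
    simp only [← psiC_comp] at hxy
    rw [h.1 (b₂.1 hxy)]
  · obtain ⟨c, rfl⟩ := b₂.2 z
    obtain ⟨a, rfl⟩ := h.2 c
    exact ⟨_, (psiC_comp a _).symm⟩

instance preservesFiniteLimits_tilde_of (A : Type u) [CommRing A] :
    PreservesFiniteLimits (tilde.functor (CommRingCat.of A)) :=
  QCoh.tilde_preservesFiniteLimits (R := CommRingCat.of A)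

/-- The derived tilde functor reflects isomorphism of objects. -/
theorem nonempty_iso_of_tildeD_iso {A : Type u} [CommRing A] {M N : Dual.D A}
    (e : (DCoh.tildeD (CommRingCat.of A)).obj M ≅ (DCoh.tildeD (CommRingCat.of A)).obj N) :
    Nonempty (M ≅ N) := by
  let T := DCoh.tildeD (CommRingCat.of A)
  obtain ⟨a, ha⟩ := (tildeD_map_bijective (R := CommRingCat.of A) M N).2 e.hom
  obtain ⟨b, hb⟩ := (tildeD_map_bijective (R := CommRingCat.of A) N M).2 e.inv
  exact ⟨⟨a, b, (tildeD_map_bijective (R := CommRingCat.of A) M M).1 (by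
      rw [Functor.map_comp, ha, hb, Iso.hom_inv_id, CategoryTheory.Functor.map_id]),
    (tildeD_map_bijective (R := CommRingCat.of A) N N).1 (by
      rw [Functor.map_comp, ha, hb, Iso.inv_hom_id, CategoryTheory.Functor.map_id])⟩⟩

variable {A : Type u} [CommRing A] {X : Scheme.{u}} (f : X ⟶ Spec (CommRingCat.of A))

instance additive_moduleSpecΓ (R : CommRingCat.{u}) : (moduleSpecΓFunctor (R := R)).Additive :=
  (tilde.adjunction (R := R)).right_adjoint_additive

/-- Sections of quasi-isomorphisms from `f_* I` to a K-injective complex. -/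
theorem quasiIso_gammaCx_map (I : CochainComplex X.Modules ℤ) [I.IsKInjective]
    {J : CochainComplex (Spec (CommRingCat.of A)).Modules ℤ} [J.IsKInjective]
    (s : (mapCx (Scheme.Modules.pushforward f)).obj I ⟶ J) [QuasiIso s] :
    QuasiIso (gammaCx.map s) := by
  haveI := quasiIso_gamma_map f I s
  let Fo := forget₂ (ModuleCat.{u} A) AddCommGrpCat.{u}
  haveI : QuasiIso ((Fo.mapHomologicalComplex (ComplexShape.up ℤ)).map (gammaCx.map s)) :=
    inferInstanceAs (QuasiIso ((mapCx (DCoh.gammaAb (Spec (CommRingCat.of A)))).map s))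
  exact (HomologicalComplex.quasiIso_map_iff_of_preservesHomology (gammaCx.map s) Fo).1 inferInstance

/-- `RΓ(X, K)~ = Rf_* K` for quasi-coherent `K`. -/
theorem nonempty_tildeD_RΓA [QuasiCompact f] [QuasiSeparated f] [HTor.HasRΓA f] [DCoh.HasRpush f]
    (K : DCoh.D X) (hK : DCoh.IsQCohD K) :
    Nonempty ((DCoh.tildeD (CommRingCat.of A)).obj ((HTor.RΓA f).obj K) ≅ (DCoh.Rpush f).obj K) := by
  obtain ⟨I, hI, -, ⟨eI⟩⟩ := exists_kInjective_rep K
  haveI := hI
  obtain ⟨e₁⟩ := nonempty_rpush_iso_of_kInjective (f := f) (I := I) eI.symm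
  obtain ⟨J, s, hJ, hs⟩ := exists_kInjective_res ((mapCx (Scheme.Modules.pushforward f)).obj I)
  haveI := hJ
  haveI := hs
  haveI := isIso_Q_map s hs
  haveI : IsIso (DerivedCategory.Q.map (gammaCx.map s)) :=
    (DerivedCategory.isIso_Q_map_iff_quasiIso _ _).2 (quasiIso_gammaCx_map f I s)
  haveI := isIso_counitQ J (isQCohD_of_iso (e₁ ≪≫ asIso (DerivedCategory.Q.map s)) (isQCohD_rpush f hK))
  haveI := isIso_rightDerivedUnit_of_kInjective (HTor.gammaAKh f) I
  let c : ((HTor.globalSectionsA f).mapHomologicalComplex (ComplexShape.up ℤ)).obj I ≅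
      gammaCx.obj ((mapCx (Scheme.Modules.pushforward f)).obj I) :=
    HomologicalComplex.Hom.isoOfComponents (fun i => Iso.refl _) (fun i j _ => by
      simp only [Iso.refl_hom, Category.id_comp, Category.comp_id]
      rfl)
  let eG : (HTor.RΓA f).obj (DerivedCategory.Q.obj I) ≅
      DerivedCategory.Q.obj (gammaCx.obj ((mapCx (Scheme.Modules.pushforward f)).obj I)) :=
    (HTor.RΓA f).mapIso ((DerivedCategory.quotientCompQhIso X.Modules).app I).symm ≪≫
      (asIso (((HTor.gammaAKh f).totalRightDerivedUnit DerivedCategory.Qh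
        (HomotopyCategory.quasiIso X.Modules (ComplexShape.up ℤ))).app
          ((HomotopyCategory.quotient X.Modules (ComplexShape.up ℤ)).obj I))).symm ≪≫
      (DerivedCategory.quotientCompQhIso (ModuleCat.{u} A)).app _ ≪≫ DerivedCategory.Q.mapIso c
  exact ⟨(DCoh.tildeD (CommRingCat.of A)).mapIso ((HTor.RΓA f).mapIso eI ≪≫ eG ≪≫
      asIso (DerivedCategory.Q.map (gammaCx.map s))) ≪≫ asIso (counitQ J) ≪≫
    (asIso (DerivedCategory.Q.map s)).symm ≪≫ e₁.symm⟩

end Groth.Agent.KFlatLib
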