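import Groth.Agent.KFlatLib.Scheme.TildeTensor
import Groth.Agent.KFlatLib.Scheme.TildePull
import Groth.Agent.KFlatLib.Scheme.TildePC
import Groth.Agent.KFlatLib.Scheme.ProjFormula
import Groth.Agent.KFlatLib.Scheme.RHomBounded
import Groth.Agent.KFlatLib.TotalMapFlip
import Groth.Agent.KFlatLib.Ring.Dualizing
import Groth.Agent.InjQC.QCohInj
import Groth.Agent.PushAmp.RSheafHomExists
import Groth.Agent.RGammaI.RHomBridge

/-!
# `RSheafHom` between tildes of complexes of modules
-/

set_option linter.style.haveILetI false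
set_option backward.isDefEq.respectTransparency false
set_option maxHeartbeats 800000

universe u

open CategoryTheory CategoryTheory.Limits AlgebraicGeometry MonoidalCategory CategoryTheory.Pretriangulated

attribute [local instance] HasDerivedCategory.standard

noncomputable section

namespace Groth.Agent.KFlatLib

/-- A fully faithful functor intertwining two left adjoints computes the right adjoints. -/
lemma nonempty_rightAdj_obj_iso {C D : Type*} [Category C] [Category D] {F R' : C ⥤ C} {G R : D ⥤ D}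
    {T : C ⥤ D} (adj' : F ⊣ R') (adj : G ⊣ R) (hT : T.FullyFaithful) (t : F ⋙ T ≅ T ⋙ G) (L N : C)
    (eN : T.obj N ≅ R.obj (T.obj L)) : Nonempty (R'.obj L ≅ N) := by
  let B : ∀ P : C, (P ⟶ R'.obj L) ≃ (P ⟶ N) := fun P =>
    (adj'.homEquiv P L).symm.trans
      ((hT.homEquiv).trans ((Iso.homFromEquiv (t.app P)).trans
        ((adj.homEquiv (T.obj P) (T.obj L)).trans ((Iso.homToEquiv eN.symm).trans hT.homEquiv.symm))))
  refine ⟨Yoneda.ext _ _ (fun {P} f => B P f) (fun {P} f => (B P).symm f)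
    (fun f => (B _).symm_apply_apply f) (fun f => (B _).apply_symm_apply f) (fun {P P'} g f => ?_)⟩
  apply hT.map_injective
  have h := t.inv.naturality g
  simp only [Functor.comp_map] at h
  simp only [B, Equiv.trans_apply, Functor.FullyFaithful.homEquiv_apply, Functor.FullyFaithful.homEquiv_symm_apply,
    Functor.map_comp, hT.map_preimage, Iso.homToEquiv_apply,
    Adjunction.homEquiv_naturality_left_symm]
  change (adj.homEquiv (T.obj P') (T.obj L)) (t.inv.app P' ≫
      (T.map (F.map g) ≫ T.map ((adj'.homEquiv P L).symm f))) ≫ eN.symm.hom =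
    T.map g ≫ (adj.homEquiv (T.obj P) (T.obj L)) (t.inv.app P ≫ T.map ((adj'.homEquiv P L).symm f)) ≫
      eN.symm.hom
  have e : ∀ {Z : D} (x : T.obj (F.obj P) ⟶ Z),
      t.inv.app P' ≫ T.map (F.map g) ≫ x = G.map (T.map g) ≫ (t.inv.app P ≫ x) := fun x => by
    rw [← Category.assoc, ← Category.assoc]
    exact congrArg (· ≫ x) h.symm
  rw [e, Adjunction.homEquiv_naturality_left, Category.assoc]

variable {A : Type u} [CommRing A] [PreservesFiniteLimits (tilde.functor (CommRingCat.of A))]

local notation "SA" => Spec (CommRingCat.of A)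

instance tilde_additive_of (A : Type u) [CommRing A] :
    (tilde.functor (CommRingCat.of A)).Additive := tilde_additive _

instance tilde_preservesFiniteColimits_of (A : Type u) [CommRing A] :
    PreservesFiniteColimits (tilde.functor (CommRingCat.of A)) := QCoh.tilde_preservesFiniteColimits

/-- Tilde of complexes. -/
abbrev tildeCxF (A : Type u) [CommRing A] :
    CochainComplex (ModuleCat.{u} A) ℤ ⥤ CochainComplex (Spec (CommRingCat.of A)).Modules ℤ :=
  (tilde.functor (CommRingCat.of A)).mapHomologicalComplex (ComplexShape.up ℤ)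

/-- `(- ⊗^L K)~ = -~ ⊗^L K~`. -/
theorem nonempty_tildeD_tensorRightD [DTen.HasLTen A] (K : DRing.Cx A)
    [DCoh.HasLTensorCx ((tildeCxF A).obj K)] :
    Nonempty (DTen.tensorRightD A (DerivedCategory.Q.obj K) ⋙ DCoh.tildeD (CommRingCat.of A) ≅
      Functor.comp (D := DCoh.D SA) (E := DCoh.D SA) (DCoh.tildeD (CommRingCat.of A))
        (DCoh.LTensorCx ((tildeCxF A).obj K))) := by
  let P := (ringCover A).P
  let tA := tildeCxF A
  let E := tA.obj K
  let G : DCoh.D SA ⥤ DCoh.D SA := DCoh.LTensorCx E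
  let W := HomologicalComplex.quasiIso (ModuleCat.{u} A) (ComplexShape.up ℤ)
  haveI : ∀ M, IsIso ((Functor.whiskerRight (ringCover A).ψ
      (DerivedCategory.Q : _ ⥤ Dual.D A)).app M) := fun M =>
    (DerivedCategory.isIso_Q_map_iff_quasiIso _ _).2 ((ringCover A).quasiIso_ψ M)
  haveI := NatIso.isIso_of_isIso_app (Functor.whiskerRight (ringCover A).ψ
    (DerivedCategory.Q : _ ⥤ Dual.D A))
  let res : P ⋙ DerivedCategory.Q ≅ (DerivedCategory.Q : _ ⥤ Dual.D A) :=
    asIso (Functor.whiskerRight (ringCover A).ψ DerivedCategory.Q) ≪≫ Functor.leftUnitor _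
  haveI : ∀ M, IsIso ((Functor.whiskerLeft P (DTen.εRight (A := A) K)).app M) := fun M =>
    isIso_ε (A := A) (kFlat_ringRes M) K
  haveI := NatIso.isIso_of_isIso_app (Functor.whiskerLeft P (DTen.εRight (A := A) K))
  let a : DerivedCategory.Q ⋙ DTen.tensorRightD A (DerivedCategory.Q.obj K) ≅ P ⋙ DRing.tensorCxQ A K :=
    Functor.isoWhiskerRight res.symm _ ≪≫ Functor.associator _ _ _ ≪≫
      asIso (Functor.whiskerLeft P (DTen.εRight (A := A) K))
  let c := (DCoh.tensorCxQ E).totalLeftDerivedCounit DerivedCategory.Q (qisX SA)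
  haveI : ∀ M, IsIso ((Functor.whiskerLeft (P ⋙ tA) c).app M) := fun M =>
    isIso_LTensorCx_counit E (isKFlat_tilde (R := CommRingCat.of A) (P.obj M) (kFlat_ringRes M))
  haveI := NatIso.isIso_of_isIso_app (Functor.whiskerLeft (P ⋙ tA) c)
  haveI : (tilde.functor (CommRingCat.of A)).Additive := tilde_additive _
  haveI : PreservesFiniteColimits (tilde.functor (CommRingCat.of A)) := QCoh.tilde_preservesFiniteColimits
  haveI : (tilde.functor (CommRingCat.of A)).IsLeftAdjoint := (tilde.adjunction (R := CommRingCat.of A)).isLeftAdjoint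
  let θ : (tilde.functor (CommRingCat.of A)).mapHomologicalComplex (ComplexShape.up ℤ) ⋙ DCoh.tensorCx.flip.obj
      (((tilde.functor (CommRingCat.of A)).mapHomologicalComplex (ComplexShape.up ℤ)).obj K) ≅
      (curriedTensor (ModuleCat.{u} (CommRingCat.of A))).map₂CochainComplex.flip.obj K ⋙
        (tilde.functor (CommRingCat.of A)).mapHomologicalComplex (ComplexShape.up ℤ) :=
    totalMapNatIso (tildeTensorBiIso (CommRingCat.of A)) K
  let e₁ : DerivedCategory.Q ⋙ DTen.tensorRightD A (DerivedCategory.Q.obj K) ⋙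
        DCoh.tildeD (CommRingCat.of A) ≅
      (P ⋙ (curriedTensor (ModuleCat.{u} A)).map₂CochainComplex.flip.obj K ⋙ tA) ⋙ DerivedCategory.Q :=
    (Functor.associator _ _ _).symm ≪≫ Functor.isoWhiskerRight a _ ≪≫
      Functor.associator _ _ _ ≪≫ Functor.isoWhiskerLeft P (Functor.associator _ _ _ ≪≫
        Functor.isoWhiskerLeft _ (tilde.functor (CommRingCat.of A)).mapDerivedCategoryFactors ≪≫
        (Functor.associator _ _ _).symm) ≪≫ (Functor.associator _ _ _).symm
  let e₂ : DerivedCategory.Q ⋙ DCoh.tildeD (CommRingCat.of A) ⋙ G ≅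
      (P ⋙ tA) ⋙ DCoh.tensorCxQ E :=
    Functor.isoWhiskerRight res.symm _ ≪≫ Functor.associator _ _ _ ≪≫
      Functor.isoWhiskerLeft P ((Functor.associator _ _ _).symm ≪≫
        Functor.isoWhiskerRight (tilde.functor (CommRingCat.of A)).mapDerivedCategoryFactors _ ≪≫
        Functor.associator _ _ _) ≪≫ (Functor.associator _ _ _).symm ≪≫
      asIso (Functor.whiskerLeft (P ⋙ tA) c)
  letI : Localization.Lifting DerivedCategory.Q W
      (DerivedCategory.Q ⋙ DTen.tensorRightD A (DerivedCategory.Q.obj K) ⋙ DCoh.tildeD (CommRingCat.of A))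
      (DTen.tensorRightD A (DerivedCategory.Q.obj K) ⋙ DCoh.tildeD (CommRingCat.of A)) := ⟨Iso.refl _⟩
  letI : Localization.Lifting DerivedCategory.Q W
      (DerivedCategory.Q ⋙ DCoh.tildeD (CommRingCat.of A) ⋙ G)
      (DCoh.tildeD (CommRingCat.of A) ⋙ G) := ⟨Iso.refl _⟩
  exact ⟨Localization.liftNatIso DerivedCategory.Q W _ _ _ _
    (e₁ ≪≫ Functor.associator _ _ _ ≪≫ Functor.isoWhiskerLeft P (Functor.isoWhiskerRight θ.symm _) ≪≫
      Functor.isoWhiskerLeft P (Functor.associator _ _ _) ≪≫ (Functor.associator _ _ _).symm ≪≫ e₂.symm)⟩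

/-- The two forms of pseudo-coherence over a ring. -/
lemma rpc_of_isPseudoCoherent {R : Type u} [CommRing R] {m : ℤ} {M : Dual.D R}
    (h : DRing.IsPseudoCoherent R m M) : RPC (R := CommRingCat.of R) m M := by
  obtain ⟨E, a, b, α, hz, hf, h1, h2⟩ := h
  exact ⟨E, α, ⟨⟨a, b, hz⟩, hf⟩, h1, h2⟩

/-- `H^k(Q φ)` is an isomorphism when `φ` is a quasi-isomorphism in degree `k`. -/
lemma isIso_hd_Q {C : Type*} [Category C] [Abelian C] {F G : CochainComplex C ℤ} (φ : F ⟶ G) (k : ℤ)
    (h : QuasiIsoAt φ k) : IsIso ((DerivedCategory.homologyFunctor C k).map (DerivedCategory.Q.map φ)) := by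
  haveI : IsIso ((HomologicalComplex.homologyFunctor C (ComplexShape.up ℤ) k).map φ) :=
    (quasiIsoAt_iff_isIso_homologyMap φ k).1 h
  exact (NatIso.isIso_map_iff (DerivedCategory.homologyFunctorFactors C k) φ).2 inferInstance

/-- High degree cohomology of `iHom` of complexes bounded below and above vanishes. -/
theorem isZero_homology_iHom_high {X : Scheme.{u}} (C J : CochainComplex X.Modules ℤ) (c b : ℤ)
    [C.IsStrictlyGE c] [J.IsStrictlyLE b] (k : ℤ) (hk : b < k + c) : IsZero (((iHom C).obj J).homology k) := by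
  let B := (iHom C).obj J
  have hA : IsZero (B.cycles k) := by
    let g : (HomologicalComplex.single X.Modules (ComplexShape.up ℤ) k).obj (B.cycles k) ⟶ B :=
      HomologicalComplex.mkHomFromSingle (B.iCycles k) (fun i _ => B.iCycles_d k i)
    have hg : g = 0 := by
      refine ((iHomAdj C).homEquiv _ _).symm.injective
        (HomologicalComplex.hom_ext _ _ fun n => ?_)
      by_cases hn : b < n
      · exact (J.isZero_of_isStrictlyLE b n hn).eq_of_tgt _ _
      · refine HomologicalComplex.mapBifunctor.hom_ext (fun p q h => ?_)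
        change p + q = n at h
        refine IsZero.eq_of_src ?_ _ _
        by_cases hp : p = k
        · exact Functor.map_isZero _ (C.isZero_of_isStrictlyGE c q (by omega))
        · exact Functor.map_isZero ((DCoh.tensorBi (X := X)).flip.obj (C.X q))
            (HomologicalComplex.isZero_single_obj_X _ _ _ _ hp)
    have h := congrArg (fun φ : _ ⟶ B => φ.f k) hg
    simp only [g, HomologicalComplex.mkHomFromSingle_f, HomologicalComplex.zero_f] at h
    rw [IsZero.iff_id_eq_zero, ← cancel_mono (B.iCycles k), Category.id_comp, zero_comp,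
      ← cancel_epi (HomologicalComplex.singleObjXSelf (ComplexShape.up ℤ) k (B.cycles k)).hom,
      comp_zero]
    exact h
  exact IsZero.of_epi (B.homologyπ k) hA

/-- High degree cohomology of `iHom(E, J)` only depends on a bounded above truncation of `E`. -/
theorem nonempty_homology_iHom_high {X : Scheme.{u}} {E' E : CochainComplex X.Modules ℤ} (φ : E' ⟶ E) (m : ℤ)
    (hφ : ∀ k, k < m → IsZero ((CochainComplex.mappingCone φ).homology k))
    (J : CochainComplex X.Modules ℤ) [J.IsKInjective] [∀ n, Injective (J.X n)] (b : ℤ)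
    [J.IsStrictlyLE b] (i : ℤ) (hi : b < i + m) :
    Nonempty (((iHom E).obj J).homology i ≅ ((iHom (E'⟦(1 : ℤ)⟧)).obj J).homology (i + 1)) := by
  let C := CochainComplex.mappingCone φ
  haveI : C.IsGE m := by
    rw [CochainComplex.isGE_iff]
    exact fun k hk => (C.exactAt_iff_isZero_homology k).2 (hφ k hk)
  haveI := quasiIso_iHomMap (C.πTruncGE m) J
  have hz : ∀ k, b < k + m → IsZero (((iHom C).obj J).homology k) := fun k hk =>
    (isZero_homology_iHom_high (C.truncGE m) J m b k hk).of_iso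
      (asIso (HomologicalComplex.homologyMap ((iHomMap (C.πTruncGE m)).app J) k)).symm
  obtain ⟨hw, hse⟩ := Inner.innerHom_shortExact (DCoh.tensorBi (X := X)) (coneSeq φ)
    (fun n => ⟨coneSeqSplitting φ n⟩) J
  haveI := hse.isIso_δ i (i + 1) rfl (hz i hi) (hz (i + 1) (by omega))
  exact ⟨asIso (hse.δ i (i + 1) rfl)⟩

/-- Tilde of a complex of injectives is a complex of injectives. -/
lemma injective_tildeCx [IsNoetherianRing A] (J : DRing.Cx A) (hJ : DRing.TermwiseInjective J) (i : ℤ) :
    Injective (((tildeCxF A).obj J).X i) := by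
  haveI : IsNoetherianRing (CommRingCat.of A) := ‹_›
  haveI : Module.Injective A (J.X i) := hJ i
  exact InjQC.injective_tilde (A := CommRingCat.of A) (J.X i)

/-- The cone of `tilde (τ≤m K) ⟶ tilde K` is acyclic below `m`. -/
lemma isZero_cone_tilde_truncLE (K : DRing.Cx A) (m k : ℤ) (hk : k < m) :
    IsZero ((CochainComplex.mappingCone ((tildeCxF A).map (K.ιTruncLE m))).homology k) := by
  haveI : PreservesFiniteColimits (tilde.functor (CommRingCat.of A)) := QCoh.tilde_preservesFiniteColimits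
  let ι := K.ιTruncLE m
  let φ := (tildeCxF A).map ι
  have hφ : ∀ l, l ≤ m → IsIso ((DerivedCategory.homologyFunctor _ l).map (DerivedCategory.Q.map φ)) :=
    fun l hl => by
      refine isIso_hd_Q φ l ?_
      haveI := K.quasiIsoAt_ιTruncLE m l hl
      exact HomologicalComplex.quasiIsoAt_map_of_preservesHomology ι (tilde.functor (CommRingCat.of A)) l
  let T := DerivedCategory.Q.mapTriangle.obj (CochainComplex.mappingCone.triangle φ)
  have hT : T ∈ distinguishedTriangles :=
    (DerivedCategory.mem_distTriang_iff T).2 ⟨_, _, φ, ⟨Iso.refl _⟩⟩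
  haveI : Epi ((DerivedCategory.homologyFunctor _ k).map T.mor₁) := by
    haveI := hφ k hk.le
    exact inferInstanceAs (Epi ((DerivedCategory.homologyFunctor _ k).map (DerivedCategory.Q.map φ)))
  haveI : Mono ((DerivedCategory.homologyFunctor _ (k + 1)).map T.mor₁) := by
    haveI := hφ (k + 1) (by omega)
    exact inferInstanceAs (Mono ((DerivedCategory.homologyFunctor _ (k + 1)).map (DerivedCategory.Q.map φ)))
  refine IsZero.of_iso ?_ ((DerivedCategory.homologyFunctorFactors _ k).app _).symm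
  exact (DerivedCategory.HomologySequence.exact₃ T hT k (k + 1) rfl).isZero_X₂
    ((DerivedCategory.HomologySequence.epi_homologyMap_mor₁_iff T hT k).1 inferInstance)
    ((DerivedCategory.HomologySequence.mono_homologyMap_mor₁_iff T hT k (k + 1) rfl).1
      inferInstance)

/-- `tilde (τ≤m K)[1]` is pseudo-coherent. -/
lemma pseudoCoherentD_tilde_truncLE [IsNoetherianRing A] (K : DRing.Cx A)
    (hK : ∀ i : ℤ, Module.Finite A (Dual.HD A (DRing.toD K) i)) (m n : ℤ) :
    DCoh.IsPseudoCoherentD n (DCoh.toD SA (((tildeCxF A).obj (K.truncLE m))⟦(1 : ℤ)⟧)) := by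
  haveI := hasLTen A
  haveI := hasRHom (A := A)
  let tQ := (tilde.functor (CommRingCat.of A)).mapDerivedCategoryFactors
  let tA := tildeCxF A
  let M : Dual.D A := (DerivedCategory.Q.obj (K.truncLE m))⟦(1 : ℤ)⟧
  haveI : (DerivedCategory.Q.obj (K.truncLE m)).IsLE m := (DerivedCategory.isLE_Q_obj_iff _ m).2 inferInstance
  haveI : M.IsLE (m - 1) := DerivedCategory.TStructure.t.isLE_shift _ m 1 (m - 1) (by omega)
  have hfin : ∀ j : ℤ, Module.Finite A (Dual.HD A M j) := fun j => by
    obtain ⟨s⟩ := exists_hdShiftLEquiv (DerivedCategory.Q.obj (K.truncLE m)) 1 j (1 + j) rfl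
    haveI : Module.Finite A (Dual.HD A (DerivedCategory.Q.obj (K.truncLE m)) (1 + j)) := by
      by_cases hj : 1 + j ≤ m
      · haveI := (quasiIsoAt_iff_isIso_homologyMap (K.ιTruncLE m) (1 + j)).1 (K.quasiIsoAt_ιTruncLE m (1 + j) hj)
        haveI : IsIso ((DerivedCategory.homologyFunctor _ (1 + j)).map (DerivedCategory.Q.map (K.ιTruncLE m))) :=
          isIso_hd_Q _ _ (K.quasiIsoAt_ιTruncLE m (1 + j) hj)
        haveI := hK (1 + j)
        exact Module.Finite.equiv (asIso ((DerivedCategory.homologyFunctor _ (1 + j)).map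
          (DerivedCategory.Q.map (K.ιTruncLE m)))).toLinearEquiv.symm
      · haveI : Subsingleton (Dual.HD A (DerivedCategory.Q.obj (K.truncLE m)) (1 + j)) :=
          ModuleCat.subsingleton_of_isZero (DerivedCategory.isZero_of_isLE _ m _ (by omega))
        infer_instance
    exact Module.Finite.equiv s.symm
  refine (isPseudoCoherentD_iff _ _).2 (((isPseudoCoherentD_iff _ _).1
    ((pseudoCoherentD_tildeD_iff (R := CommRingCat.of A) n M).2
      (rpc_of_isPseudoCoherent ((H9Misc.DRingPC.pc'_iff M).1 (pc'_of_finite_hd M (m - 1) hfin) n)))).of_iso ?_)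
  exact (DCoh.tildeD _).mapIso ((DerivedCategory.Q.commShiftIso (1 : ℤ)).app _).symm ≪≫
    tQ.app _ ≪≫ DerivedCategory.Q.mapIso ((tA.commShiftIso (1 : ℤ)).app _)

set_option maxHeartbeats 3200000 in
/-- `RSheafHom(K~, L~)` has quasi-coherent cohomology. -/
theorem isQCohD_RSheafHom_tilde [IsNoetherianRing A] (K : DRing.Cx A)
    (hK : ∀ i : ℤ, Module.Finite A (Dual.HD A (DRing.toD K) i)) (L : Dual.D A) (hL : DRing.HasFiniteInjDim A L)
    (E : CochainComplex (SA).Modules ℤ)
    (hE : DCoh.toD SA E ≅ (DCoh.tildeD (CommRingCat.of A)).obj (DRing.toD K))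
    [DCoh.HasLTensorCx E] [DCoh.HasRSheafHom E] :
    DCoh.IsQCohD ((DCoh.RSheafHom E).obj ((DCoh.tildeD (CommRingCat.of A)).obj L)) := by
  obtain ⟨a, b, J₀, hvan, hinj, ⟨eJ⟩⟩ := hL
  haveI : (tilde.functor (CommRingCat.of A)).Additive := tilde_additive _
  haveI : PreservesFiniteColimits (tilde.functor (CommRingCat.of A)) := QCoh.tilde_preservesFiniteColimits
  let tA := tildeCxF A
  let J := tA.obj J₀
  haveI : J.IsStrictlyGE a := (CochainComplex.isStrictlyGE_iff _ _).2 fun i hi =>
    Functor.map_isZero (tilde.functor (CommRingCat.of A)) (hvan i (Or.inl hi))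
  haveI : J.IsStrictlyLE b := (CochainComplex.isStrictlyLE_iff _ _).2 fun i hi =>
    Functor.map_isZero (tilde.functor (CommRingCat.of A)) (hvan i (Or.inr hi))
  haveI hJinj : ∀ n, Injective (J.X n) := injective_tildeCx J₀ hinj
  haveI : J.IsKInjective := CochainComplex.isKInjective_of_injective J a
  let tQ := (tilde.functor (CommRingCat.of A)).mapDerivedCategoryFactors
  let eL : (DCoh.tildeD (CommRingCat.of A)).obj L ≅ DerivedCategory.Q.obj J :=
    (DCoh.tildeD _).mapIso eJ.symm ≪≫ tQ.app J₀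
  obtain ⟨eR⟩ := nonempty_RSheafHom_iso E J
  obtain ⟨eE⟩ := nonempty_iHom_iso_of_iso
    (show DerivedCategory.Q.obj E ≅ DerivedCategory.Q.obj (tA.obj K) from hE ≪≫ tQ.app K) J
  intro i
  let m := b - i + 1
  let ι := K.ιTruncLE m
  let φ := tA.map ι
  have hcone := fun k hk => isZero_cone_tilde_truncLE K m k hk
  obtain ⟨e₃⟩ := nonempty_homology_iHom_high φ m hcone J b i (by omega)
  let P := (tA.obj (K.truncLE m))⟦(1 : ℤ)⟧
  haveI := hasLTensorCx P
  haveI := PushAmp.hasRSheafHom P
  obtain ⟨eP⟩ := nonempty_RSheafHom_iso P J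
  have hpc : ∀ n : ℤ, DCoh.IsPseudoCoherentD n (DCoh.toD SA P) := pseudoCoherentD_tilde_truncLE K hK m
  haveI : (DerivedCategory.Q.obj J).IsGE a := (DerivedCategory.isGE_Q_obj_iff J a).2 inferInstance
  have hqJ : DCoh.IsQCohD (X := SA) (DerivedCategory.Q.obj J) :=
    isQCohD_of_iso (X := SA) eL (isQCohD_tildeD (R := CommRingCat.of A) L)
  have hq := isQCohD_RSheafHom_of_pseudoCoherent (X := SA) P hpc (DerivedCategory.Q.obj J) hqJ a (i + 1)
  refine isQCoh_of_iso ?_ hq
  exact (DerivedCategory.homologyFunctor _ (i + 1)).mapIso eP ≪≫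
    (DerivedCategory.homologyFunctorFactors _ (i + 1)).app _ ≪≫ e₃.symm ≪≫
    ((DerivedCategory.homologyFunctorFactors _ i).app _).symm ≪≫
    (DerivedCategory.homologyFunctor _ i).mapIso ((DCoh.RSheafHom E).mapIso eL ≪≫ eR ≪≫ eE).symm

/-- `RSheafHom(K~, L~) = RHom(K, L)~`. -/
theorem nonempty_RSheafHom_tilde [IsNoetherianRing A] (K : DRing.Cx A)
    (hK : ∀ i : ℤ, Module.Finite A (Dual.HD A (DRing.toD K) i)) [DRing.HasRHomCx K] (L : Dual.D A)
    (hL : DRing.HasFiniteInjDim A L) (E : CochainComplex (SA).Modules ℤ)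
    (hE : DCoh.toD SA E ≅ (DCoh.tildeD (CommRingCat.of A)).obj (DRing.toD K))
    [DCoh.HasLTensorCx E] [DCoh.HasRSheafHom E] :
    Nonempty ((DCoh.RSheafHom E).obj ((DCoh.tildeD (CommRingCat.of A)).obj L) ≅
      (DCoh.tildeD (CommRingCat.of A)).obj ((DRing.RHomCx K).obj L)) := by
  haveI := hasLTen A
  haveI := hasRHom (A := A)
  let tA := tildeCxF A
  let E' := tA.obj K
  haveI := hasLTensorCx E'
  haveI : PreservesFiniteColimits (tilde.functor (CommRingCat.of A)) := QCoh.tilde_preservesFiniteColimits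
  obtain ⟨t⟩ := nonempty_tildeD_tensorRightD K
  obtain ⟨cE⟩ := nonempty_LTensorCx_congr_D (P := E') (E := E)
    (((tilde.functor (CommRingCat.of A)).mapDerivedCategoryFactors.app K).symm ≪≫ hE.symm)
  let G' : DCoh.D SA ⥤ DCoh.D SA := DCoh.LTensorCx E'
  let G : DCoh.D SA ⥤ DCoh.D SA := DCoh.LTensorCx E
  let cG : G' ≅ G := cE
  obtain ⟨N, ⟨eN⟩⟩ := exists_tildeD_iso (isQCohD_RSheafHom_tilde K hK L hL E hE)
  let T := DCoh.tildeD (CommRingCat.of A)
  let hT : T.FullyFaithful :=
    { preimage := fun {M M'} f => ((tildeD_map_bijective M M').2 f).choose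
      map_preimage := fun {M M'} f => ((tildeD_map_bijective M M').2 f).choose_spec
      preimage_map := fun {M M'} f => (tildeD_map_bijective M M').1
        ((tildeD_map_bijective M M').2 (T.map f)).choose_spec }
  let tc : DTen.tensorRightD A (DerivedCategory.Q.obj K) ⋙ T ≅ T ⋙ G := t ≪≫ Functor.isoWhiskerLeft T cG
  let adj : G ⊣ (DCoh.RSheafHom E : DCoh.D SA ⥤ DCoh.D SA) := DCoh.RSheafHomAdj E
  obtain ⟨i⟩ := nonempty_rightAdj_obj_iso (DTen.rhomAdj A (DerivedCategory.Q.obj K)) adj hT tc L N eN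
  obtain ⟨r⟩ := RGammaI.nonempty_RHomR_iso_RHomCx K L
  exact ⟨eN.symm ≪≫ T.mapIso (i.symm ≪≫ r)⟩

end Groth.Agent.KFlatLib
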