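import Groth.Agent.S2289
import Groth.Agent.QCoh.TensorSections
import Groth.Agent.KFlatLib.Scheme.Tilde
import Groth.Agent.KFlatLib.Scheme.PullTensorCx

/-!
# Tilde commutes with tensor products, naturally, also for complexes
-/

set_option linter.style.haveILetI false
set_option backward.isDefEq.respectTransparency false
set_option maxHeartbeats 800000

universe u

open CategoryTheory CategoryTheory.Limits AlgebraicGeometry TopologicalSpace Opposite MonoidalCategory
open scoped TensorProduct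

attribute [local instance] HasDerivedCategory.standard

noncomputable section

namespace Groth.Agent.KFlatLib

variable {R : CommRingCat.{u}}

/-- The comparison on global sections. -/
def tildeTensorΓ (M N : ModuleCat.{u} R) :
    M ⊗ N ⟶ moduleSpecΓFunctor.obj ((DCoh.tensorBi.obj (tilde M)).obj (tilde N)) := by
  haveI : TensorProduct.CompatibleSMul R Γ(Spec R, ⊤) Γ(tilde M, ⊤) Γ(tilde N, ⊤) := ⟨fun g m n => by
    obtain ⟨r, rfl⟩ := S2289.algebraMap_surj R g
    rw [algebraMap_smul, algebraMap_smul, TensorProduct.smul_tmul]⟩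
  let e1 : M ≃ₗ[R] Γ(tilde M, ⊤) := (tilde.isoTop M).toLinearEquiv
  let e2 : N ≃ₗ[R] Γ(tilde N, ⊤) := (tilde.isoTop N).toLinearEquiv
  let e3 : Γ(tilde M, ⊤) ⊗[R] Γ(tilde N, ⊤) ≃ₗ[R] Γ(tilde M, ⊤) ⊗[Γ(Spec R, ⊤)] Γ(tilde N, ⊤) :=
    TensorProduct.equivOfCompatibleSMul Γ(Spec R, ⊤) R R Γ(tilde M, ⊤) Γ(tilde N, ⊤)
  let T := (DCoh.tensorBi.obj (tilde M)).obj (tilde N)
  let f : M ⊗[R] N →ₗ[R] moduleSpecΓFunctor.obj T :=
    ((QCoh.tmLin (tilde M) (tilde N) ⊤).restrictScalars R).comp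
      ((TensorProduct.congr e1 e2).trans e3).toLinearMap
  exact ModuleCat.ofHom (X := M ⊗[R] N) (Y := (moduleSpecΓFunctor.obj T : Type u)) f

/-- The value on simple tensors. -/
lemma tildeTensorΓ_tmul (M N : ModuleCat.{u} R) (m : M) (n : N) :
    (tildeTensorΓ M N).hom (m ⊗ₜ[R] n) =
      QCoh.tmS (tilde M) (tilde N) ((tilde.isoTop M).hom m) ((tilde.isoTop N).hom n) :=
  rfl

lemma bijective_tildeTensorΓ (M N : ModuleCat.{u} R) : Function.Bijective (tildeTensorΓ M N) := by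
  haveI : TensorProduct.CompatibleSMul R Γ(Spec R, ⊤) Γ(tilde M, ⊤) Γ(tilde N, ⊤) := ⟨fun g m n => by
    obtain ⟨r, rfl⟩ := S2289.algebraMap_surj R g
    rw [algebraMap_smul, algebraMap_smul, TensorProduct.smul_tmul]⟩
  let e1 : M ≃ₗ[R] Γ(tilde M, ⊤) := (tilde.isoTop M).toLinearEquiv
  let e2 : N ≃ₗ[R] Γ(tilde N, ⊤) := (tilde.isoTop N).toLinearEquiv
  let e3 : Γ(tilde M, ⊤) ⊗[R] Γ(tilde N, ⊤) ≃ₗ[R] Γ(tilde M, ⊤) ⊗[Γ(Spec R, ⊤)] Γ(tilde N, ⊤) :=
    TensorProduct.equivOfCompatibleSMul Γ(Spec R, ⊤) R R Γ(tilde M, ⊤) Γ(tilde N, ⊤)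
  show Function.Bijective ((QCoh.tmLin (tilde M) (tilde N) ⊤) ∘ ((TensorProduct.congr e1 e2).trans e3))
  exact (QCoh.bijective_tmLin (inferInstance : Coh.IsQCoh (tilde M)) (inferInstance : Coh.IsQCoh (tilde N))
    (isAffineOpen_top (Spec R))).comp ((TensorProduct.congr e1 e2).trans e3).bijective

lemma isoTop_naturality {M M' : ModuleCat.{u} R} (φ : M ⟶ M') (m : M) :
    (tilde.isoTop M').hom (φ m) = (moduleSpecΓFunctor.map (tilde.map φ)).hom ((tilde.isoTop M).hom m) :=
  congrArg (fun g => g.hom m) (tilde.toTildeΓNatIso.hom.naturality φ)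

/-- `(M ⊗ N)~ ⟶ M~ ⊗ N~`. -/
def tildeTensorHom (M N : ModuleCat.{u} R) :
    (tilde.functor R).obj (M ⊗ N) ⟶ (DCoh.tensorBi.obj (tilde M)).obj (tilde N) :=
  (tilde.adjunction.homEquiv _ _).symm (tildeTensorΓ M N)

instance (M N : ModuleCat.{u} R) : IsIso (tildeTensorHom M N) := by
  let T := (DCoh.tensorBi.obj (tilde M)).obj (tilde N)
  have hT : Coh.IsQCoh T := isQCoh_tensor (inferInstance : Coh.IsQCoh (tilde M)) (inferInstance : Coh.IsQCoh (tilde N))
  haveI : IsIso T.fromTildeΓ := (isQuasicoherent_iff_isIso_fromTildeΓ T).1 hT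
  haveI : IsIso (tildeTensorΓ M N) := (ConcreteCategory.isIso_iff_bijective _).2 (bijective_tildeTensorΓ M N)
  haveI : IsIso (tilde.adjunction.counit.app T) := inferInstanceAs (IsIso T.fromTildeΓ)
  rw [tildeTensorHom, Adjunction.homEquiv_counit]
  infer_instance

lemma tildeTensorΓ_natural {M M' N N' : ModuleCat.{u} R} (φ : M ⟶ M') (ψ : N ⟶ N') :
    (φ ⊗ₘ ψ) ≫ tildeTensorΓ M' N' = tildeTensorΓ M N ≫ moduleSpecΓFunctor.map
      ((DCoh.tensorBi.map (tilde.map φ)).app (tilde N) ≫ (DCoh.tensorBi.obj (tilde M')).map (tilde.map ψ)) := by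
  refine ModuleCat.MonoidalCategory.tensor_ext fun m n => ?_
  change (tildeTensorΓ M' N').hom (φ m ⊗ₜ[R] ψ n) = (moduleSpecΓFunctor.map
    ((DCoh.tensorBi.map (tilde.map φ)).app (tilde N) ≫ (DCoh.tensorBi.obj (tilde M')).map (tilde.map ψ))).hom
      ((tildeTensorΓ M N).hom (m ⊗ₜ[R] n))
  rw [tildeTensorΓ_tmul, tildeTensorΓ_tmul]
  rw [isoTop_naturality φ m, isoTop_naturality ψ n]
  exact (tmSh_naturality_right (tilde M') (tilde.map ψ) _ _).symm.trans
    (congrArg ((DCoh.toP.map ((DCoh.tensorBi.obj (tilde M')).map (tilde.map ψ))).app (op ⊤))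
      (tmSh_naturality_left (tilde.map φ) (tilde N) _ _).symm)

lemma tildeTensorHom_natural {M M' N N' : ModuleCat.{u} R} (φ : M ⟶ M') (ψ : N ⟶ N') :
    (tilde.functor R).map (φ ⊗ₘ ψ) ≫ tildeTensorHom M' N' = tildeTensorHom M N ≫
      (DCoh.tensorBi.map (tilde.map φ)).app (tilde N) ≫ (DCoh.tensorBi.obj (tilde M')).map (tilde.map ψ) :=
  (tilde.adjunction.homEquiv_naturality_left_symm _ _).symm.trans
    ((congrArg _ (tildeTensorΓ_natural φ ψ)).trans (tilde.adjunction.homEquiv_naturality_right_symm _ _))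

/-- Tilde commutes with tensor products, naturally in both variables. -/
def tildeTensorBiIso (R : CommRingCat.{u}) :
    curriedTensor (ModuleCat.{u} R) ⋙ (Functor.whiskeringRight _ _ _).obj (tilde.functor R) ≅
      tilde.functor R ⋙ DCoh.tensorBi ⋙ (Functor.whiskeringLeft _ _ _).obj (tilde.functor R) :=
  NatIso.ofComponents
    (fun M => NatIso.ofComponents (fun N => asIso (tildeTensorHom M N)) fun {N N'} ψ => by
      have h := tildeTensorHom_natural (𝟙 M) ψ
      rw [MonoidalCategory.id_tensorHom, show tilde.map (𝟙 M) = 𝟙 (tilde M) from (tilde.functor R).map_id M,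
        CategoryTheory.Functor.map_id, NatTrans.id_app, Category.id_comp] at h
      exact h)
    fun {M M'} φ => by
      ext N : 2
      have h := tildeTensorHom_natural φ (𝟙 N)
      rw [MonoidalCategory.tensorHom_id, show tilde.map (𝟙 N) = 𝟙 (tilde N) from (tilde.functor R).map_id N,
        CategoryTheory.Functor.map_id, Category.comp_id] at h
      exact h

end Groth.Agent.KFlatLib
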